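import Mathlib
import Cfsg.Agent.H917.Conj.Basic
import Cfsg.Agent.FastGrp
import Cfsg.Agent.Prune
set_option linter.all false
prune_inst 0x7ffffefbffeafddfffff7fbfaefeddfdf7aeafffb6fff9fbffe46bbffbff7f12cbf7fbbfebfbfafe1ff7e3b495e87bc3fdffdeffea6bdc7ffffd5ff4dfffff8fffffbd0951d49c341fbc0ffe93f0778e7f3fffffffffffffffffffffffffffbeffffffffffff
open scoped Cfsg.Agent.FastGrp

-- part: H917/CJ/Frob
section
/-!
# Criterion F for the conjugation character (S4792)

If `x` is an element of the finite group `G` whose centraliser `C` normalises an abelian subgroup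
`A ≠ 1` such that every element `≠ 1` of `C` acts without fixed points on `A`, then every complex
representation on which `A` acts nontrivially has a nonzero `C`-fixed vector.
-/

set_option autoImplicit false

namespace Cfsg.Agent.H917.CJ

/-- Criterion F: a centraliser `C(x)` normalising an abelian subgroup `A ≠ 1` and acting on it
without fixed points. -/
def FrobCent (G : Type*) [Group G] : Prop :=
  ∃ (x : G) (A : Subgroup G), A ≠ ⊥ ∧ (∀ a ∈ A, ∀ b ∈ A, a * b = b * a) ∧
    (∀ c : G, c * x = x * c → ∀ a ∈ A, c * a * c⁻¹ ∈ A) ∧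
    (∀ c : G, c * x = x * c → c ≠ 1 → ∀ a ∈ A, c * a = a * c → a = 1)

theorem FrobCent.of_equiv {G H : Type*} [Group G] [Group H] (h : FrobCent G) (e : G ≃* H) :
    FrobCent H := by
  obtain ⟨x, A, hA, hab, hn, hs⟩ := h
  refine ⟨e x, A.map e.toMonoidHom, ?_, ?_, ?_, ?_⟩
  · intro h
    apply hA
    rw [Subgroup.map_eq_bot_iff] at h
    rw [eq_bot_iff]
    intro a ha
    have := h ha
    rw [MonoidHom.mem_ker] at this
    rw [Subgroup.mem_bot]
    exact (map_eq_one_iff e e.injective).1 this
  · rintro _ ⟨a, ha, rfl⟩ _ ⟨b, hb, rfl⟩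
    change e a * e b = e b * e a
    rw [← map_mul, ← map_mul, hab a ha b hb]
  · rintro c hc _ ⟨a, ha, rfl⟩
    obtain ⟨c, rfl⟩ := e.surjective c
    have hc' : c * x = x * c := by
      apply e.injective
      rw [map_mul, map_mul, hc]
    exact ⟨c * a * c⁻¹, hn c hc' a ha, by simp only [_root_.MulEquiv.toMonoidHom_eq_coe, _root_.MonoidHom.coe_coe, _root_.map_mul, _root_.map_inv]⟩
  · rintro c hc hc1 _ ⟨a, ha, rfl⟩ hca
    obtain ⟨c, rfl⟩ := e.surjective c
    have hc' : c * x = x * c := by
      apply e.injective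
      rw [map_mul, map_mul, hc]
    have hca' : c * a = a * c := by
      apply e.injective
      rw [map_mul, map_mul]
      exact hca
    have : a = 1 := hs c hc' (fun h => hc1 (by rw [h, map_one])) a ha hca'
    rw [this, map_one]

end Cfsg.Agent.H917.CJ
end

-- part: H917/CJ/Frame
section
/-!
# Common material for the classical rows of S4792

* `FrobCent.row` : criterion F gives the row,
* `frob_quot` : criterion F for a quotient by a central subgroup, in terms of lifts,
* extensions of finite fields: linear maps commuting with a generator.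
-/

set_option autoImplicit false

open Cfsg

namespace Cfsg.Agent.H917.CJ

open Cfsg.Agent.H430.Conj

universe u v

theorem FrobCent.row {G : Type u} [Group G] [Finite G] [IsSimpleGroup G] (h : FrobCent G) : Row G := by
  obtain ⟨x, A, hA, hab, hn, hs⟩ := h
  refine row_of_frob x A ⟨⟨fun a b => Subtype.ext (hab a a.2 b b.2)⟩⟩ hA ?_ ?_
  · intro c hc
    exact hn c (Subgroup.mem_centralizer_singleton_iff.1 hc)
  · intro c hc a ha hca
    by_cases hc1 : c = 1
    · exact Or.inl hc1
    · exact Or.inr (hs c (Subgroup.mem_centralizer_singleton_iff.1 hc) hc1 a ha hca)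

/-- Criterion F for a quotient, in terms of lifts. -/
theorem frob_quot {G : Type*} [Group G] (N : Subgroup G) [N.Normal] (x : G) (A : Subgroup G) (hA : A ≠ ⊥)
    (hab : ∀ a ∈ A, ∀ b ∈ A, a * b = b * a) (hAN : ∀ a ∈ A, a ∈ N → a = 1)
    (h : ∀ c : G, ∀ z ∈ N, c * x = z * (x * c) → (∀ a ∈ A, c * a * c⁻¹ ∈ A) ∧
      (∀ a ∈ A, c * a = a * c → a = 1 ∨ c ∈ N)) : FrobCent (G ⧸ N) := by
  have hcx : ∀ c : G, (c : G ⧸ N) * (x : G ⧸ N) = (x : G ⧸ N) * (c : G ⧸ N) → ∃ z ∈ N, c * x = z * (x * c) := by
    intro c hc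
    rw [← QuotientGroup.mk_mul, ← QuotientGroup.mk_mul] at hc
    have h1 := (QuotientGroup.eq.1 hc.symm)
    -- (x c)⁻¹ (c x) ∈ N
    refine ⟨(c * x) * (x * c)⁻¹, ?_, by group⟩
    have h2 := Subgroup.Normal.conj_mem (inferInstance : N.Normal) _ h1 (x * c)
    have h3 : x * c * ((x * c)⁻¹ * (c * x)) * (x * c)⁻¹ = (c * x) * (x * c)⁻¹ := by group
    rwa [h3] at h2
  refine ⟨(x : G ⧸ N), A.map (QuotientGroup.mk' N), ?_, ?_, ?_, ?_⟩
  · intro h0
    apply hA
    rw [Subgroup.map_eq_bot_iff, QuotientGroup.ker_mk'] at h0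
    rw [eq_bot_iff]
    intro a ha
    rw [Subgroup.mem_bot]
    exact hAN a ha (h0 ha)
  · rintro _ ⟨a, ha, rfl⟩ _ ⟨b, hb, rfl⟩
    rw [← map_mul, ← map_mul, hab a ha b hb]
  · rintro c hc _ ⟨a, ha, rfl⟩
    obtain ⟨c, rfl⟩ := QuotientGroup.mk_surjective c
    obtain ⟨z, hz, hzc⟩ := hcx c hc
    exact ⟨c * a * c⁻¹, (h c z hz hzc).1 a ha, by simp only [_root_.QuotientGroup.mk'_apply, _root_.QuotientGroup.mk_mul, _root_.QuotientGroup.mk_inv]⟩
  · rintro c hc hc1 _ ⟨a, ha, rfl⟩ hca
    obtain ⟨c, rfl⟩ := QuotientGroup.mk_surjective c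
    obtain ⟨z, hz, hzc⟩ := hcx c hc
    obtain ⟨h1, h2⟩ := h c z hz hzc
    have h3 : c * a * c⁻¹ * a⁻¹ ∈ N := by
      rw [← QuotientGroup.eq_one_iff]
      simp only [QuotientGroup.mk_mul, QuotientGroup.mk_inv]
      rw [QuotientGroup.mk'_apply] at hca
      rw [hca]
      group
    have h4 := hAN _ (A.mul_mem (h1 a ha) (A.inv_mem ha)) h3
    have h5 : c * a = a * c := by
      have := mul_inv_eq_one.1 h4
      rw [mul_inv_eq_iff_eq_mul] at this
      exact this
    rcases h2 a ha h5 with h6 | h6
    · rw [h6, map_one]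
    · exact absurd ((QuotientGroup.eq_one_iff c).2 h6) hc1

/-! ### Extensions of finite fields -/

theorem exists_ext (F : Type*) [Field F] [Finite F] (m : ℕ) (hm : 0 < m) :
    ∃ (K : Type) (_ : Field K) (_ : Algebra F K) (_ : Finite K), Module.finrank F K = m := by
  obtain ⟨p, hp⟩ := CharP.exists F
  have : Fact p.Prime := ⟨CharP.char_is_prime F p⟩
  have : NeZero m := ⟨hm.ne'⟩
  have hfin : Module.Finite F (FiniteField.Extension F p m) := inferInstance
  exact ⟨FiniteField.Extension F p m, inferInstance, inferInstance, Module.finite_of_finite F,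
    FiniteField.finrank_extension F p m⟩

section ext

variable {F K : Type*} [Field F] [Field K] [Algebra F K]

/-- `s` generates `K` over `F`. -/
theorem exists_aeval {s : K} (hs : Algebra.adjoin F {s} = ⊤) (y : K) :
    ∃ f : Polynomial F, Polynomial.aeval s f = y := by
  have h : y ∈ Algebra.adjoin F {s} := by rw [hs]; trivial
  rw [Algebra.adjoin_singleton_eq_range_aeval] at h
  exact h

theorem comm_aeval {s s' : K} (T : K →ₗ[F] K) (hT : ∀ k, T (s * k) = s' * T k) (f : Polynomial F) (k : K) :
    T (Polynomial.aeval s f * k) = Polynomial.aeval s' f * T k := by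
  induction f using Polynomial.induction_on' generalizing k with
  | add f g hf hg => rw [map_add, map_add, add_mul, map_add, hf, hg, add_mul]
  | monomial n a =>
    rw [Polynomial.aeval_monomial, Polynomial.aeval_monomial]
    have : ∀ n : ℕ, ∀ k, T (s ^ n * k) = s' ^ n * T k := by
      intro n
      induction n with
      | zero => intro k; simp
      | succ n ih => intro k; rw [pow_succ, mul_assoc, ih, hT, pow_succ, mul_assoc]
    rw [mul_assoc, ← Algebra.smul_def, map_smul, this, Algebra.smul_def, mul_assoc]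

/-- A linear map commuting with a generator is a multiplication. -/
theorem comm_gen {s : K} (hs : Algebra.adjoin F {s} = ⊤) (T : K →ₗ[F] K) (hT : ∀ k, T (s * k) = s * T k) (k : K) :
    T k = T 1 * k := by
  obtain ⟨f, rfl⟩ := exists_aeval hs k
  have := comm_aeval T hT f 1
  rw [mul_one] at this
  rw [this, mul_comm]

/-- An intertwiner between two elements of `K`, one of them a generator, is semilinear for an automorphism. -/
theorem conj_gen [FiniteDimensional F K] {s s' : K} (hs : Algebra.adjoin F {s} = ⊤) (T : K →ₗ[F] K) (hT0 : T ≠ 0)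
    (hT : ∀ k, T (s * k) = s' * T k) :
    ∃ θ : K ≃ₐ[F] K, θ s = s' ∧ ∀ y k, T (y * k) = θ y * T k := by
  have hk : ∃ k, T k ≠ 0 := by
    by_contra h
    push Not at h
    exact hT0 (LinearMap.ext h)
  obtain ⟨k₀, hk₀⟩ := hk
  have hmul : ∀ y k : K, T (y * k) = T (y * k₀) / T k₀ * T k := by
    intro y k
    obtain ⟨f, rfl⟩ := exists_aeval hs y
    rw [comm_aeval T hT, comm_aeval T hT, mul_div_assoc, div_self hk₀, mul_one]
  let θ : K →ₐ[F] K := AlgHom.ofLinearMap
    { toFun := fun y => T (y * k₀) / T k₀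
      map_add' := by intro x y; rw [add_mul, map_add, add_div]
      map_smul' := by
        intro r y
        rw [smul_mul_assoc, map_smul, smul_div_assoc]; rfl }
    (by simp only [div_self hk₀, _root_.LinearMap.coe_mk, _root_.AddHom.coe_mk, _root_.one_mul])
    (by
      intro x y
      simp only [LinearMap.coe_mk, AddHom.coe_mk]
      rw [mul_assoc, hmul x (y * k₀), mul_div_assoc])
  have hθ : ∀ y, θ y = T (y * k₀) / T k₀ := fun y => rfl
  have hbij : Function.Bijective θ := by
    have h1 : Function.Injective θ := θ.toRingHom.injective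
    exact ⟨h1, (LinearMap.injective_iff_surjective (f := θ.toLinearMap)).1 h1⟩
  refine ⟨AlgEquiv.ofBijective θ hbij, ?_, ?_⟩
  · change θ s = s'
    rw [hθ, hT, mul_div_assoc, div_self hk₀, mul_one]
  · intro y k
    change T (y * k) = θ y * T k
    rw [hθ, hmul]

/-- Automorphisms over a finite field are powers of Frobenius. -/
theorem aut_eq_pow [Finite F] [Finite K] (θ : K ≃ₐ[F] K) : ∃ i, ∀ x, θ x = x ^ (Nat.card F ^ i) := by
  obtain ⟨p, hp⟩ := CharP.exists F
  have : Fact p.Prime := ⟨CharP.char_is_prime F p⟩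
  exact FiniteField.exists_forall_apply_eq_pow F p K θ

/-- Automorphisms over a finite field are powers of Frobenius, with exponent less than the degree. -/
theorem aut_eq_pow_lt [Finite F] [Finite K] (θ : K ≃ₐ[F] K) :
    ∃ i < Module.finrank F K, ∀ x, θ x = x ^ (Nat.card F ^ i) := by
  obtain ⟨i, hi⟩ := aut_eq_pow θ
  have : Module.Finite F K := Module.Finite.of_finite
  have hpos : 0 < Module.finrank F K := Module.finrank_pos
  refine ⟨i % Module.finrank F K, Nat.mod_lt _ hpos, fun x => ?_⟩
  rw [hi x]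
  have := Fintype.ofFinite K
  have hcard : Nat.card K = Nat.card F ^ Module.finrank F K := Module.natCard_eq_pow_finrank
  have h1 : ∀ j : ℕ, ∀ x : K, x ^ (Nat.card F ^ (Module.finrank F K * j)) = x := by
    intro j
    induction j with
    | zero => intro x; simp
    | succ j ih =>
      intro x
      rw [Nat.mul_succ, pow_add, pow_mul, ih, ← hcard, Nat.card_eq_fintype_card]
      exact FiniteField.pow_card x
  conv_lhs => rw [← Nat.mod_add_div i (Module.finrank F K)]
  rw [pow_add, mul_comm, pow_mul, h1]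

/-- A primitive root of the finite field `K` generates it over `F`. -/
theorem adjoin_primitive [Finite K] {s : Kˣ} (hs : ∀ y : Kˣ, y ∈ Subgroup.zpowers s) :
    Algebra.adjoin F {(s : K)} = ⊤ := by
  rw [eq_top_iff]
  intro y _
  by_cases hy : y = 0
  · rw [hy]; exact Subalgebra.zero_mem _
  · obtain ⟨n, hn⟩ := hs (Units.mk0 y hy)
    have hfin : Finite Kˣ := inferInstance
    obtain ⟨m, hm⟩ : ∃ m : ℕ, s ^ m = Units.mk0 y hy :=
      (Submonoid.mem_powers_iff _ _).1 (mem_powers_iff_mem_zpowers.2 (hs (Units.mk0 y hy)))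
    have h1 : y = (s : K) ^ m := by
      have := congrArg Units.val hm
      simpa using this.symm
    rw [h1]
    exact Subalgebra.pow_mem (Algebra.adjoin F {(s : K)}) (Algebra.subset_adjoin (Set.mem_singleton _)) m

end ext

/-- An additive-to-multiplicative map into a field of characteristic `p` from a vector space over it is
constant. -/
theorem eq_one_of_add {F K : Type*} [Field F] [Finite F] [AddCommGroup K] [Module F K] (f : K → F)
    (h0 : f 0 = 1) (hadd : ∀ u v, f (u + v) = f u * f v) (u : K) : f u = 1 := by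
  obtain ⟨p, hp⟩ := CharP.exists F
  have : Fact p.Prime := ⟨CharP.char_is_prime F p⟩
  have h1 : ∀ n : ℕ, f (n • u) = f u ^ n := by
    intro n
    induction n with
    | zero => simp [h0]
    | succ n ih => rw [succ_nsmul, hadd, ih, pow_succ]
  have h2 : p • u = 0 := by
    rw [← Nat.cast_smul_eq_nsmul F, CharP.cast_eq_zero, zero_smul]
  have h3 := h1 p
  rw [h2, h0] at h3
  have h4 : frobenius F p (f u) = frobenius F p 1 := by
    rw [frobenius_def, frobenius_def, one_pow, ← h3]
  exact frobenius_inj F p h4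

end Cfsg.Agent.H917.CJ
end
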